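import Groth.Agent.BranchVar.Cut.Ring

/-!
# Choice of a pencil of linear forms
-/

set_option autoImplicit false

universe u

open scoped Polynomial

namespace Groth.BranchVar.Cut

/-- A vector avoiding finitely many proper subspaces over an infinite field. -/
theorem exists_notMem_of_finite {k : Type u} [Field k] [Infinite k] {V : Type*} [AddCommGroup V]
    [Module k V] {S : Set (Submodule k V)} (hS : S.Finite) (hne : ∀ p ∈ S, p ≠ ⊤) :
    ∃ v : V, ∀ p ∈ S, v ∉ p := by
  have := hS.to_subtype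
  by_contra h
  push Not at h
  have hu : ⋃ p : S, (p.1 : Set V) = Set.univ :=
    Set.eq_univ_of_forall fun v => by
      obtain ⟨p, hp, hv⟩ := h v
      exact Set.mem_iUnion.2 ⟨⟨p, hp⟩, hv⟩
  obtain ⟨p, hp⟩ := Subspace.exists_eq_top_of_iUnion_eq_univ hu
  exact hne p.1 p.2 hp

variable {k : Type u} [Field k] [CharZero k] {A : Type u} [CommRing A] [IsDedekindDomain A]
  {B : Type u} [CommRing B] [IsReduced B] [Algebra A B] [Algebra k A] [Algebra k B]
  [IsScalarTower k A B] [Algebra.FiniteType A B] {V : Type u} [AddCommGroup V] [Module k V]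

/-- Outside finitely many proper subspaces and finitely many parameters the members of a pencil
cut out reduced flat algebras. -/
theorem exists_pencil (lam : V →ₗ[k] B) (hone : ∃ c, lam c = 1)
    (hint : ∀ b : B, IsIntegral (Algebra.adjoin A (Set.range lam)) b)
    (htr : ∀ P ∈ minimalPrimes B, ∃ b : B, ∀ p : A[X], p ≠ 0 → Polynomial.aeval b p ∉ P) :
    ∃ S₀ : Set (Submodule k V), S₀.Finite ∧ (∀ p ∈ S₀, p ≠ ⊤) ∧
      ∀ c₀ : V, (∀ p ∈ S₀, c₀ ∉ p) →
      ∃ S₁ : Set (Submodule k V), S₁.Finite ∧ (∀ p ∈ S₁, p ≠ ⊤) ∧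
        ∀ c₁ : V, (∀ p ∈ S₁, c₁ ∉ p) →
        ∃ F : Finset k, ∀ a ∉ F,
          (∀ P ∈ minimalPrimes B, lam (c₁ - a • c₀) ∉ P) ∧
          IsReduced (B ⧸ Ideal.span {lam (c₁ - a • c₀)}) ∧
          Module.Flat A (B ⧸ Ideal.span {lam (c₁ - a • c₀)}) := by
  classical
  have : IsNoetherianRing B := Algebra.FiniteType.isNoetherianRing A B
  have hfin := minimalPrimes.finite_of_isNoetherianRing B
  obtain ⟨e, he⟩ := hone
  have hproper : ∀ (q : Ideal B), q ≠ ⊤ → (q.restrictScalars k).comap lam ≠ ⊤ := by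
    intro q hq h
    have hmem : e ∈ (q.restrictScalars k).comap lam := by rw [h]; trivial
    rw [Submodule.mem_comap, he] at hmem
    exact hq ((Ideal.eq_top_iff_one q).2 hmem)
  refine ⟨(fun q : Ideal B => (q.restrictScalars k).comap lam) '' minimalPrimes B, hfin.image _, ?_,
    fun c₀ hc₀ => ?_⟩
  · rintro _ ⟨q, hq, rfl⟩
    exact hproper q hq.1.1.ne_top
  have h0 : ∀ P ∈ minimalPrimes B, lam c₀ ∉ P := fun P hP h => hc₀ _ ⟨P, hP, rfl⟩ h
  -- the bad subspace at a minimal prime
  have hbad : ∀ P ∈ minimalPrimes B, ∃ W : Submodule k V, W ≠ ⊤ ∧ ∀ c, c ∉ W →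
      ∀ [P.IsPrime], Transcendental A
        (algebraMap B P.ResidueField (lam c) / algebraMap B P.ResidueField (lam c₀)) := by
    intro P hP
    have := hP.1.1
    let L := P.ResidueField
    let φ : B →ₐ[A] L := IsScalarTower.toAlgHom A B L
    have hl0 : φ (lam c₀) ≠ 0 := by
      show algebraMap B L (lam c₀) ≠ 0
      rw [Ne, Ideal.algebraMap_residueField_eq_zero]; exact h0 P hP
    obtain ⟨b, hb⟩ := htr P hP
    have hbT : ¬ IsAlgebraic A (φ b) := by
      rintro ⟨p, hp, hpb⟩
      refine hb p hp ?_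
      rw [← Ideal.algebraMap_residueField_eq_zero]
      show φ (Polynomial.aeval b p) = 0
      rwa [← Polynomial.aeval_algHom_apply]
    let Cl : Subalgebra A L := Subalgebra.algebraicClosure A L
    let μ : V →ₗ[k] L := (LinearMap.mulRight k (φ (lam c₀))⁻¹).comp
      ((IsScalarTower.toAlgHom k B L).toLinearMap.comp lam)
    have hμ : ∀ c, μ c = φ (lam c) / φ (lam c₀) := fun c => (div_eq_mul_inv (φ (lam c)) (φ (lam c₀))).symm
    refine ⟨((Cl.restrictScalars k).toSubmodule).comap μ, fun htop => ?_, fun c hc => ?_⟩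
    · have hall : ∀ c, φ (lam c) / φ (lam c₀) ∈ Cl := fun c => by
        have : c ∈ ((Cl.restrictScalars k).toSubmodule).comap μ := by rw [htop]; trivial
        rw [Submodule.mem_comap, hμ] at this
        exact this
      have h1 : IsAlgebraic A (φ (lam c₀))⁻¹ := by
        have := hall e
        rwa [he, map_one, one_div] at this
      have hlam : ∀ c, φ (lam c) ∈ Cl := fun c => by
        have h2 := Cl.mul_mem (hall c) (show φ (lam c₀) ∈ Cl from IsAlgebraic.inv_iff.1 h1)
        rwa [div_mul_cancel₀ _ hl0] at h2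
      have hle : Algebra.adjoin A (Set.range lam) ≤ Cl.comap φ := Algebra.adjoin_le (by
        rintro _ ⟨c, rfl⟩; exact hlam c)
      refine hbT ?_
      let R' := Algebra.adjoin A (Set.range lam)
      let ψ : R' →+* Cl := ((φ.comp R'.val).codRestrict Cl fun x => hle x.2).toRingHom
      obtain ⟨p, hp, hpb⟩ := hint b
      have hbint : IsIntegral Cl (φ b) := by
        refine ⟨p.map ψ, hp.map _, ?_⟩
        rw [Polynomial.eval₂_map]
        have h3 := congrArg φ hpb
        rw [map_zero] at h3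
        refine Eq.trans ?_ h3
        show _ = φ.toRingHom (Polynomial.eval₂ (algebraMap R' B) b p)
        rw [Polynomial.hom_eval₂]
        rfl
      have : Algebra.IsAlgebraic A Cl := ⟨fun x => (isAlgebraic_algHom_iff Cl.val Subtype.val_injective).1 x.2⟩
      exact hbint.isAlgebraic.restrictScalars A
    · intro _ hal
      refine hc ?_
      rw [Submodule.mem_comap, hμ]
      exact hal
  choose! W hW hW' using hbad
  have hAssFin : (associatedPrimes B (B ⧸ Ideal.span {lam c₀})).Finite := associatedPrimes.finite B _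
  refine ⟨W '' minimalPrimes B ∪
      (fun q : Ideal B => (q.restrictScalars k).comap lam) ''
        associatedPrimes B (B ⧸ Ideal.span {lam c₀}),
    (hfin.image _).union (hAssFin.image _), ?_, fun c₁ hc₁ => ?_⟩
  · rintro _ (⟨P, hP, rfl⟩ | ⟨q, hq, rfl⟩)
    · exact hW P hP
    · exact hproper q hq.1.ne_top
  obtain ⟨F, hF⟩ := exists_good_finset (k := k) (lam c₀) (lam c₁) h0
    (fun P hPp hP => hW' P hP c₁ (hc₁ _ (Or.inl ⟨P, hP, rfl⟩)))
    (fun q hq h => hc₁ _ (Or.inr ⟨q, hq, rfl⟩) h)
  refine ⟨F, fun a ha => ?_⟩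
  have hτ : lam (c₁ - a • c₀) = lam c₁ - algebraMap k B a * lam c₀ := by
    rw [map_sub, map_smul, Algebra.smul_def]
  rw [hτ]
  exact hF a ha

end Groth.BranchVar.Cut
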