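import Groth.Agent.BranchVar.Cut.ProjForm
import Groth.Agent.BranchVar.Cut.Pencil
import Groth.Agent.BranchVar.SliceDim
import Groth.Agent.RedSub2.EtSection.Charts
import Groth.Agent.BlowUpBasics.IdealComap
import Groth.Agent.Misc5Sym.BaseChangeSquare
import Groth.Agent.PropsBasic.FibreBox
import Groth.Agent.Variety2.HypSection
import Groth.Agent.Variety2.Normal
import Groth.Agent.Curves1.CurveMor.Basic

/-!
# Charts of a finite cover of `P^N × C`
-/

set_option autoImplicit false

universe u

open CategoryTheory CategoryTheory.Limits AlgebraicGeometry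
open Groth.Variety2 Groth.RedSub2.EtSection
open scoped Polynomial

noncomputable section

namespace Groth.BranchVar.Cut

variable {k : Type u} [Field k] {N : ℕ} {C : Scheme.{u}} {g : C ⟶ Spec (CommRingCat.of k)}
  {X : Scheme.{u}} (f : X ⟶ pullback (CohB1.ProjSpace.toSpec N k) g)

/-- The map to projective space. -/
abbrev qP : X ⟶ CohB1.ProjSpace N k := f ≫ pullback.fst (CohB1.ProjSpace.toSpec N k) g

/-- The map to the curve. -/
abbrev pC : X ⟶ C := f ≫ pullback.snd (CohB1.ProjSpace.toSpec N k) g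

/-- The preimage of a standard chart times an open of the curve. -/
abbrev box (j : Fin (N + 1)) (U : C.Opens) : X.Opens :=
  f ⁻¹ᵁ (pullback.fst (CohB1.ProjSpace.toSpec N k) g ⁻¹ᵁ PnEuler.dOp j ⊓
    pullback.snd (CohB1.ProjSpace.toSpec N k) g ⁻¹ᵁ U)

theorem isAffineOpen_box [IsAffineHom f] (j : Fin (N + 1)) {U : C.Opens} (hU : IsAffineOpen U) :
    IsAffineOpen (box f j U) :=
  (PropsBasic.Ample.isAffineOpen_fibre_box (isAffineOpen_top (Spec (CommRingCat.of k)))
    (PnEuler.isAffineOpen_dOp j) hU le_top le_top).preimage f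

theorem box_le_qP (j : Fin (N + 1)) (U : C.Opens) : box f j U ≤ qP f ⁻¹ᵁ PnEuler.dOp j :=
  fun _ hx => hx.1

theorem box_le_pC (j : Fin (N + 1)) (U : C.Opens) : box f j U ≤ pC f ⁻¹ᵁ U :=
  fun _ hx => hx.2

/-- The affine coordinate ring of `C` acts on a chart. -/
abbrev alphaHom (j : Fin (N + 1)) (U : C.Opens) : Γ(C, U) →+* Γ(X, box f j U) :=
  ((pC f).appLE U (box f j U) (box_le_pC f j U)).hom

/-- Functions on a standard chart pulled back. -/
abbrev betaHom (j : Fin (N + 1)) (U : C.Opens) :
    Γ(CohB1.ProjSpace N k, PnEuler.dOp j) →+* Γ(X, box f j U) :=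
  ((qP f).appLE (PnEuler.dOp j) (box f j U) (box_le_qP f j U)).hom

theorem beta_scal (j : Fin (N + 1)) (U : C.Opens) (r : k) :
    betaHom f j U (PnEuler.scal (PnEuler.dOp j) r) = alphaHom f j U (sec g U r) := by
  show ((Scheme.ΓSpecIso (CommRingCat.of k)).inv ≫ (CohB1.ProjSpace.toSpec N k).appLE ⊤ _ le_top ≫
      (qP f).appLE _ _ (box_le_qP f j U)) r =
    ((Scheme.ΓSpecIso (CommRingCat.of k)).inv ≫ g.appLE ⊤ U le_top ≫
      (pC f).appLE _ _ (box_le_pC f j U)) r
  have h : qP f ≫ CohB1.ProjSpace.toSpec N k = pC f ≫ g := by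
    rw [Category.assoc, Category.assoc, pullback.condition]
  simp only [Scheme.Hom.appLE_comp_appLE, h]

/-- The values of the linear forms, divided by a variable. -/
def lamHom (j : Fin (N + 1)) (U : C.Opens) (c : Fin (N + 1) → k) : Γ(X, box f j U) :=
  betaHom f j U (chartForm j c)

theorem lamHom_apply (j : Fin (N + 1)) (U : C.Opens) (c : Fin (N + 1) → k) :
    lamHom f j U c = ∑ i, alphaHom f j U (sec g U (c i)) * betaHom f j U (PnEuler.tt j i) := by
  rw [lamHom, chartForm, map_sum]
  exact Finset.sum_congr rfl fun i _ => by rw [map_mul, beta_scal]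

/-- A good member: it cuts the chart in a reduced flat subscheme and misses the generic points. -/
def Good (j : Fin (N + 1)) (U : C.Opens) (c : Fin (N + 1) → k) : Prop :=
  (∀ P ∈ minimalPrimes Γ(X, box f j U), lamHom f j U c ∉ P) ∧
    _root_.IsReduced (Γ(X, box f j U) ⧸ Ideal.span {lamHom f j U c}) ∧
    RingHom.Flat ((Ideal.Quotient.mk (Ideal.span {lamHom f j U c})).comp (alphaHom f j U))

theorem isIntegralElem_box [IsFinite f] (j : Fin (N + 1)) {U : C.Opens} (hU : IsAffineOpen U)
    (R : Subring Γ(X, box f j U)) (hα : ∀ a, alphaHom f j U a ∈ R)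
    (hβ : ∀ i, betaHom f j U (PnEuler.tt j i) ∈ R) (b : Γ(X, box f j U)) :
    R.subtype.IsIntegralElem b := by
  let W := pullback.fst (CohB1.ProjSpace.toSpec N k) g ⁻¹ᵁ PnEuler.dOp j ⊓
    pullback.snd (CohB1.ProjSpace.toSpec N k) g ⁻¹ᵁ U
  have hW : IsAffineOpen W := PropsBasic.Ample.isAffineOpen_fibre_box
    (isAffineOpen_top (Spec (CommRingCat.of k))) (PnEuler.isAffineOpen_dOp j) hU le_top le_top
  let φ : Γ(pullback (CohB1.ProjSpace.toSpec N k) g, W) →+* Γ(X, box f j U) := (f.app W).hom
  have hfin : φ.Finite := f.finite_app W hW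
  have key : ∀ x, φ x ∈ R := by
    obtain ⟨e, he⟩ := Misc5Sym.exists_sections_tensor
      (IsPullback.of_hasPullback (CohB1.ProjSpace.toSpec N k) g)
      (US := ⊤) (UT := U) (UX := PnEuler.dOp j) le_top le_top (isAffineOpen_top _) hU
      (PnEuler.isAffineOpen_dOp j) (UY := W) rfl inf_le_left inf_le_right
    intro x
    obtain ⟨z, rfl⟩ := e.surjective x
    induction z using TensorProduct.induction_on with
    | zero => rw [map_zero, map_zero]; exact R.zero_mem
    | add z w hz hw => rw [map_add, map_add]; exact R.add_mem hz hw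
    | tmul r x =>
      rw [he, map_mul]
      have e1 : φ ((pullback.snd (CohB1.ProjSpace.toSpec N k) g).appLE U W inf_le_right r) =
          alphaHom f j U r := by
        show (Scheme.Hom.appLE (pullback.snd (CohB1.ProjSpace.toSpec N k) g) U W _ ≫ f.app W) r = (pC f).appLE U _ _ r
        rw [Scheme.Hom.app_eq_appLE, Scheme.Hom.appLE_comp_appLE]
      have e2 : φ ((pullback.fst (CohB1.ProjSpace.toSpec N k) g).appLE (PnEuler.dOp j) W inf_le_left x) =
          betaHom f j U x := by
        show (Scheme.Hom.appLE (pullback.fst (CohB1.ProjSpace.toSpec N k) g) _ W _ ≫ f.app W) x = (qP f).appLE _ _ _ x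
        rw [Scheme.Hom.app_eq_appLE, Scheme.Hom.appLE_comp_appLE]
      refine R.mul_mem ?_ ?_
      · exact e1 ▸ hα r
      · rw [e2]
        clear e2 he
        obtain ⟨p, rfl⟩ := PnEuler.exists_eval₂_eq j x
        induction p using MvPolynomial.induction_on with
        | C a => rw [MvPolynomial.eval₂_C, beta_scal]; exact hα _
        | add p q hp hq => rw [MvPolynomial.eval₂_add, map_add]; exact R.add_mem hp hq
        | mul_X p i hp =>
          rw [MvPolynomial.eval₂_mul, MvPolynomial.eval₂_X, map_mul]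
          exact R.mul_mem hp (hβ i)
  obtain ⟨p, hp, hpb⟩ := hfin.to_isIntegral b
  refine ⟨p.map (φ.codRestrict R key), hp.map _, ?_⟩
  rw [Polynomial.eval₂_map]
  exact hpb

variable [IsAlgClosed k] [CharZero k] [IsIntegral C] [Smooth g] [IsFinite f] [IsReduced X]
  [Flat (pC f)]

/-- A minimal prime of a chart is a generic point, which is not algebraic over the curve. -/
theorem exists_transcendental_of_minimal (hCdim : topologicalKrullDim C = 1) {m : ℕ} (hm : 1 ≤ m)
    (hdim : ∀ Z ∈ irreducibleComponents (↥X : Type u),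
      topologicalKrullDim (↥Z : Type u) = ((m + 1 : ℕ) : WithBot ℕ∞))
    (j : Fin (N + 1)) {U : C.Opens} (hU : IsAffineOpen U) :
    letI := (alphaHom f j U).toAlgebra
    ∀ P ∈ minimalPrimes Γ(X, box f j U), ∃ b : Γ(X, box f j U),
      ∀ p : Γ(C, U)[X], p ≠ 0 → Polynomial.aeval b p ∉ P := by
  let := (alphaHom f j U).toAlgebra
  intro P hP
  have hV := isAffineOpen_box f j hU
  let fX : X ⟶ Spec (CommRingCat.of k) := pC f ≫ g
  have : LocallyOfFiniteType fX := inferInstance
  have : IsLocallyNoetherian X := LocallyOfFiniteType.isLocallyNoetherian fX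
  let ξ : X := hV.fromSpec ⟨P, hP.1.1⟩
  have hξV : ξ ∈ box f j U := Dim.fromSpec_mem hV _
  have hmax : ∀ z, z ⤳ ξ → z = ξ := by
    intro z hz
    obtain ⟨q, rfl⟩ := Dim.exists_prime_of_mem hV (hz.mem_open (box f j U).2 hξV)
    have hle : q.asIdeal ≤ P := by
      have := (Dim.le_fromSpec_iff hV ⟨P, hP.1.1⟩ q).1
      have h2 : hV.fromSpec ⟨P, hP.1.1⟩ ≤ hV.fromSpec q := Scheme.le_iff_specializes.2 hz
      exact (Dim.le_fromSpec_iff hV _ _).1 h2
    exact congrArg _ (PrimeSpectrum.ext (le_antisymm hle (hP.2 ⟨q.2, bot_le⟩ hle)))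
  have hη : pC f ξ = genericPoint C := Slice.apply_eq_genericPoint_of_maximal (pC f) ξ hmax
  have hcomp : closure {ξ} ∈ irreducibleComponents ↥X := by
    refine ⟨isIrreducible_singleton.closure, fun T hT hsub => ?_⟩
    obtain ⟨v, hv⟩ := QuasiSober.sober hT.closure isClosed_closure
    have hvξ : v ⤳ ξ := hv.specializes (subset_closure (hsub (subset_closure rfl)))
    rw [hmax v hvξ] at hv
    exact subset_closure.trans hv.def.ge
  have hhξ : Order.height ξ = (m + 1 : ℕ) := by
    have h1 := hdim _ hcomp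
    rw [Dim.dim_closure_singleton] at h1
    exact WithBot.coe_injective h1
  have htr : Dim.relTrdeg (pC f) ξ ≠ 0 := by
    intro h0
    have h1 := Dim.trdegAt_eq_add fX g (pC f) rfl ξ
    rw [h0, add_zero, hη, Dim.height_toNat_spec fX ξ, Dim.height_toNat_spec g, hhξ,
      Slice.height_genericPoint_curve hCdim] at h1
    simp only [ENat.toNat_natCast, ENat.toNat_one, Nat.cast_inj] at h1
    omega
  by_contra hall
  push Not at hall
  apply htr
  let : Algebra (C.residueField (pC f ξ)) (X.residueField ξ) :=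
    ((pC f).residueFieldMap ξ).hom.toAlgebra
  have hξU : pC f ξ ∈ U := box_le_pC f j U hξV
  let evA : Γ(C, U) →+* C.residueField (pC f ξ) := (C.evaluation U (pC f ξ) hξU).hom
  let evB : Γ(X, box f j U) →+* X.residueField ξ := (X.evaluation (box f j U) ξ hξV).hom
  have hnat : ∀ a, evB (alphaHom f j U a) = algebraMap _ (X.residueField ξ) (evA a) := by
    intro a
    show evB ((pC f).appLE U (box f j U) _ a) = (pC f).residueFieldMap ξ (C.evaluation U _ hξU a)
    rw [Scheme.evaluation_naturality_apply]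
    show ((pC f).app U ≫ X.presheaf.map _ ≫ X.presheaf.germ (box f j U) ξ hξV ≫ X.residue ξ) a = _
    rw [TopCat.Presheaf.germ_res_assoc]
    rfl
  have hevA : Function.Injective evA := by
    have : Nonempty U := ⟨⟨_, hξU⟩⟩
    let e := C.residue (pC f ξ)
    intro x y hxy
    have hfld : IsField (C.presheaf.stalk (pC f ξ)) := by
      rw [hη]; exact Field.toIsField C.functionField
    letI := hfld.toField
    refine (AlgebraicGeometry.germ_injective_of_isIntegral C (pC f ξ) hξU) ?_
    exact (C.residue (pC f ξ)).hom.injective hxy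
  have hev : ∀ b : Γ(X, box f j U), IsAlgebraic (C.residueField (pC f ξ)) (evB b) := by
    intro b
    obtain ⟨p, hp, hpb⟩ := hall b
    refine ⟨p.map evA, (Polynomial.map_ne_zero_iff hevA).2 hp, ?_⟩
    rw [Polynomial.aeval_def, Polynomial.eval₂_map]
    have h1 : evB (Polynomial.aeval b p) = 0 := by
      by_contra hne
      have hbo : ξ ∈ X.basicOpen (Polynomial.aeval b p) := by
        rw [← Scheme.evaluation_ne_zero_iff_mem_basicOpen]; exact hne
      rw [← Scheme.Hom.mem_preimage, hV.fromSpec_preimage_basicOpen] at hbo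
      exact hbo hpb
    rw [Polynomial.aeval_def, Polynomial.hom_eval₂] at h1
    refine Eq.trans ?_ h1
    congr 1
    exact RingHom.ext fun a => (hnat a).symm
  show Algebra.trdeg _ _ = 0
  have : Algebra.IsAlgebraic (C.residueField (pC f ξ)) (X.residueField ξ) := ⟨fun z => by
    obtain ⟨a, s, hs, rfl⟩ := Dim.exists_evaluation_eq_div hV hξV z
    exact (hev a).mul (IsAlgebraic.inv_iff.2 (hev s)) |> fun h => by
      rwa [div_eq_mul_inv]⟩
  exact trdeg_eq_zero

omit [CharZero k] [IsFinite f] [IsReduced X] [Flat (pC f)] in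
include g in
/-- The coordinate rings of a smooth curve are Dedekind domains. -/
theorem isDedekindDomain_curve (hCdim : topologicalKrullDim C = 1) {U : C.Opens}
    (hU : IsAffineOpen U) [Nonempty U] : IsDedekindDomain Γ(C, U) := by
  have : IsLocallyNoetherian C := LocallyOfFiniteType.isLocallyNoetherian g
  have : IsNoetherianRing Γ(C, U) := IsLocallyNoetherian.component_noetherian ⟨U, hU⟩
  have hnorm : ∀ x : C, IsIntegrallyClosed (C.presheaf.stalk x) := fun x => by
    let _ : Field ((Spec (CommRingCat.of k)).presheaf.stalk (g x)) :=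
      (Variety2.isField_stalk (Subsingleton.elim (α := PrimeSpectrum k) _ _)).toField
    have : IsRegularLocalRing ((Spec (CommRingCat.of k)).presheaf.stalk (g x)) := inferInstance
    have := Agf.RegularPoints.isRegularLocalRing_stalk_of_smooth g x
    have : IsDomain (C.presheaf.stalk x) := inferInstance
    have := Flatmor4.isBezout_of_regular_dim_le_one (A := C.presheaf.stalk x)
      (Curves1.CurveMor.ringKrullDim_stalk_le_one hCdim.le x)
    infer_instance
  have : IsIntegrallyClosed Γ(C, U) := Variety2.isIntegrallyClosed_Γ hnorm U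
  refine Curves1.CurveMor.isDedekindDomain_of_dim_le_one ?_
  rw [← PrimeSpectrum.topologicalKrullDim_eq_ringKrullDim]
  exact (hU.fromSpec.isOpenEmbedding.isInducing.topologicalKrullDim_le).trans hCdim.le

/-- Almost every pencil has almost only good members on a chart. -/
theorem exists_bad (hCdim : topologicalKrullDim C = 1) {m : ℕ} (hm : 1 ≤ m)
    (hdim : ∀ Z ∈ irreducibleComponents (↥X : Type u),
      topologicalKrullDim (↥Z : Type u) = ((m + 1 : ℕ) : WithBot ℕ∞))
    (j : Fin (N + 1)) {U : C.Opens} (hU : IsAffineOpen U) :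
    ∃ S₀ : Set (Submodule k (Fin (N + 1) → k)), S₀.Finite ∧ (∀ p ∈ S₀, p ≠ ⊤) ∧
      ∀ c₀, (∀ p ∈ S₀, c₀ ∉ p) →
      ∃ S₁ : Set (Submodule k (Fin (N + 1) → k)), S₁.Finite ∧ (∀ p ∈ S₁, p ≠ ⊤) ∧
        ∀ c₁, (∀ p ∈ S₁, c₁ ∉ p) →
        ∃ F : Finset k, ∀ a ∉ F, Good f j U (c₁ - a • c₀) := by
  classical
  rcases isEmpty_or_nonempty U with hemp | hne
  · refine ⟨∅, Set.finite_empty, by simp, fun c₀ _ => ⟨∅, Set.finite_empty, by simp, fun c₁ _ =>
      ⟨∅, fun a _ => ?_⟩⟩⟩
    have hbot : box f j U = ⊥ := by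
      ext x; simp only [TopologicalSpace.Opens.coe_bot, Set.mem_empty_iff_false, iff_false]
      exact fun hx => hemp.false ⟨pC f x, hx.2⟩
    have : Subsingleton Γ(X, box f j U) := by
      rw [hbot]; exact CommRingCat.subsingleton_of_isTerminal (X.sheaf.isTerminalOfEmpty)
    refine ⟨fun P hP => ?_, inferInstance, ?_⟩
    · exact absurd (Ideal.eq_top_iff_one P |>.2 (Subsingleton.elim (0 : Γ(X, box f j U)) 1 ▸ P.zero_mem))
        hP.1.1.ne_top
    · let := ((Ideal.Quotient.mk (Ideal.span {lamHom f j U (c₁ - a • c₀)})).comp (alphaHom f j U)).toAlgebra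
      show Module.Flat _ _
      infer_instance
  have : IsAffine U.toScheme := hU
  have : IsLocallyNoetherian C := LocallyOfFiniteType.isLocallyNoetherian g
  have : IsDedekindDomain Γ(C, U) := isDedekindDomain_curve (g := g) hCdim hU
  let := (sec g U).toAlgebra
  let := (alphaHom f j U).toAlgebra
  let : Algebra k Γ(X, box f j U) := ((alphaHom f j U).comp (sec g U)).toAlgebra
  have : IsScalarTower k Γ(C, U) Γ(X, box f j U) := IsScalarTower.of_algebraMap_eq fun _ => rfl
  have : Algebra.FiniteType Γ(C, U) Γ(X, box f j U) :=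
    (pC f).finiteType_appLE hU (isAffineOpen_box f j hU) _
  let lam : (Fin (N + 1) → k) →ₗ[k] Γ(X, box f j U) :=
    Fintype.linearCombination k fun i => betaHom f j U (PnEuler.tt j i)
  have hlam : ∀ c, lam c = lamHom f j U c := fun c => by
    rw [lamHom_apply, Fintype.linearCombination_apply]
    exact Finset.sum_congr rfl fun i _ => Algebra.smul_def _ _
  have hsingle : ∀ i, lam (Pi.single i 1) = betaHom f j U (PnEuler.tt j i) := fun i => by
    rw [Fintype.linearCombination_apply_single, one_smul]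
  obtain ⟨S₀, h1, h2, h3⟩ := exists_pencil (A := Γ(C, U)) lam
    ⟨Pi.single j 1, by rw [hsingle, PnEuler.tt_self, map_one]⟩
    (fun b => isIntegralElem_box f j hU (Algebra.adjoin Γ(C, U) (Set.range lam)).toSubring
      (fun a => Subalgebra.algebraMap_mem _ a)
      (fun i => Algebra.subset_adjoin ⟨_, hsingle i⟩) b)
    (exists_transcendental_of_minimal f hCdim hm hdim j hU)
  refine ⟨S₀, h1, h2, fun c₀ hc₀ => ?_⟩
  obtain ⟨S₁, h4, h5, h6⟩ := h3 c₀ hc₀
  refine ⟨S₁, h4, h5, fun c₁ hc₁ => ?_⟩
  obtain ⟨F, hF⟩ := h6 c₁ hc₁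
  refine ⟨F, fun a ha => ?_⟩
  obtain ⟨g1, g2, g3⟩ := hF a ha
  rw [hlam] at g1 g2 g3
  exact ⟨g1, g2, g3⟩

end Groth.BranchVar.Cut
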