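import Groth.Agent.BranchVar.Cut.Chart

/-!
# A hyperplane section of a finite cover of `P^N × C`, reduced, equidimensional and flat over `C`
-/

set_option autoImplicit false

universe u

open CategoryTheory CategoryTheory.Limits AlgebraicGeometry TopologicalSpace
open Groth.Variety2 Groth.RedSub2.EtSection

noncomputable section

namespace Groth.BranchVar.Cut

theorem isReduced_of_affine_cover {Y : Scheme.{u}} {I : Type*} (W : I → Y.Opens)
    (hW : ∀ i, IsAffineOpen (W i)) (hcov : ∀ y, ∃ i, y ∈ W i)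
    (h : ∀ i, _root_.IsReduced Γ(Y, W i)) : IsReduced Y := by
  have : ∀ y : Y, _root_.IsReduced (Y.presheaf.stalk y) := fun y => by
    obtain ⟨i, hy⟩ := hcov y
    have := h i
    let := (Y.presheaf.germ (W i) y hy).hom.toAlgebra
    have := (hW i).isLocalization_stalk ⟨y, hy⟩
    exact isReduced_localizationPreserves ((hW i).primeIdealOf ⟨y, hy⟩).asIdeal.primeCompl
      (Y.presheaf.stalk y) inferInstance
  exact isReduced_of_isReduced_stalk Y

theorem flat_of_affine_cover {Y C : Scheme.{u}} (h : Y ⟶ C) {I : Type*} (W : I → Y.Opens)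
    (U : I → C.Opens) (hW : ∀ i, IsAffineOpen (W i)) (hU : ∀ i, IsAffineOpen (U i))
    (e : ∀ i, W i ≤ h ⁻¹ᵁ U i) (hcov : ∀ y, ∃ i, y ∈ W i)
    (hf : ∀ i, (h.appLE (U i) (W i) (e i)).hom.Flat) : Flat h := by
  refine IsZariskiLocalAtSource.of_iSup_eq_top (P := @Flat) W
    (top_le_iff.1 fun y _ => Opens.mem_iSup.2 (hcov y)) fun i => ?_
  have : IsAffine (W i).toScheme := hW i
  have : IsAffine (U i).toScheme := hU i
  rw [← Scheme.Hom.resLE_comp_ι h (e i)]
  have : Flat (h.resLE (U i) (W i) (e i)) := by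
    rw [HasRingHomProperty.iff_of_isAffine (P := @Flat)]
    show RingHom.Flat ((h.resLE (U i) (W i) (e i)).app ⊤).hom
    rw [Scheme.Hom.resLE_app_top]
    exact (RingHom.Flat.respectsIso.cancel_left_isIso (U i).topIso.hom
      (h.appLE (U i) (W i) (e i) ≫ (W i).topIso.inv)).2
      ((RingHom.Flat.respectsIso.cancel_right_isIso (h.appLE (U i) (W i) (e i)) (W i).topIso.inv).2 (hf i))
  infer_instance

theorem mem_irreducibleComponents_iff {Y : Scheme.{u}} {Z : Set Y}
    (hZ : Z ∈ irreducibleComponents (↥Y : Type u)) :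
    ∃ ζ, Z = closure {ζ} ∧ ∀ z, z ⤳ ζ → z = ζ := by
  obtain ⟨ζ, hζ⟩ := QuasiSober.sober hZ.1 (isClosed_of_mem_irreducibleComponents Z hZ)
  refine ⟨ζ, hζ.def.symm, fun z hz => ?_⟩
  have h1 : Z ⊆ closure {z} := hζ.def.symm.trans_subset (closure_minimal
    (Set.singleton_subset_iff.2 (specializes_iff_mem_closure.1 hz)) isClosed_closure)
  have h2 := hZ.2 isIrreducible_singleton.closure h1
  have h3 : ζ ⤳ z := hζ.specializes (h2 (subset_closure rfl))
  exact (hz.antisymm h3).eq

theorem exists_maximal_generization {X : Scheme.{u}} {V : X.Opens} (hV : IsAffineOpen V) {x : X}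
    (hx : x ∈ V) : ∃ P : PrimeSpectrum Γ(X, V), P.asIdeal ∈ minimalPrimes Γ(X, V) ∧
      hV.fromSpec P ⤳ x ∧ ∀ z, z ⤳ hV.fromSpec P → z = hV.fromSpec P := by
  obtain ⟨q, hq⟩ := Dim.exists_prime_of_mem hV hx
  obtain ⟨P, hP, hPq⟩ := Ideal.exists_minimalPrimes_le (bot_le (a := q.asIdeal))
  refine ⟨⟨P, hP.1.1⟩, hP, ?_, fun z hz => ?_⟩
  · rw [← hq, ← Scheme.le_iff_specializes, Dim.le_fromSpec_iff]; exact hPq
  · obtain ⟨r, rfl⟩ := Dim.exists_prime_of_mem hV (hz.mem_open V.2 (Dim.fromSpec_mem hV _))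
    have h2 : hV.fromSpec ⟨P, hP.1.1⟩ ≤ hV.fromSpec r := Scheme.le_iff_specializes.2 hz
    have hle : r.asIdeal ≤ P := (Dim.le_fromSpec_iff hV _ _).1 h2
    exact congrArg _ (PrimeSpectrum.ext (le_antisymm hle (hP.2 ⟨r.2, bot_le⟩ hle)))

theorem closure_mem_irreducibleComponents {X : Scheme.{u}} {ξ : X} (hmax : ∀ z, z ⤳ ξ → z = ξ) :
    closure {ξ} ∈ irreducibleComponents (↥X : Type u) := by
  refine ⟨isIrreducible_singleton.closure, fun T hT hsub => ?_⟩
  obtain ⟨v, hv⟩ := QuasiSober.sober hT.closure isClosed_closure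
  have hvξ : v ⤳ ξ := hv.specializes (subset_closure (hsub (subset_closure rfl)))
  rw [hmax v hvξ] at hv
  exact subset_closure.trans hv.def.ge

variable {k : Type u} [Field k] {N : ℕ} {C : Scheme.{u}} {g : C ⟶ Spec (CommRingCat.of k)}
  {X : Scheme.{u}} (f : X ⟶ pullback (CohB1.ProjSpace.toSpec N k) g)
  [IsAlgClosed k] [CharZero k] [IsIntegral C] [Smooth g] [IsFinite f] [IsReduced X]
  [Flat (pC f)]

/-- Some hyperplane section is reduced, equidimensional and flat over the curve. -/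
theorem exists_cut [IsProper g] (hN : 1 ≤ N) (hCdim : topologicalKrullDim C = 1) {m : ℕ} (hm : 1 ≤ m)
    (hdim : ∀ Z ∈ irreducibleComponents (↥X : Type u),
      topologicalKrullDim (↥Z : Type u) = ((m + 1 : ℕ) : WithBot ℕ∞)) :
    ∃ s : Coh.structureModule (CohB1.ProjSpace N k) ⟶ Twist.twistProjSpace N k 1, s ≠ 0 ∧
      IsReduced (pullback (qP f) (PicF2.zeroScheme (Twist.twistProjSpace N k 1) s).subschemeι) ∧
      (∀ Z ∈ irreducibleComponents
          (↥(pullback (qP f) (PicF2.zeroScheme (Twist.twistProjSpace N k 1) s).subschemeι) : Type u),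
        topologicalKrullDim (↥Z : Type u) = (m : WithBot ℕ∞)) ∧
      Flat (pullback.fst (qP f) (PicF2.zeroScheme (Twist.twistProjSpace N k 1) s).subschemeι ≫ pC f) := by
  classical
  have : CompactSpace C := QuasiCompact.compactSpace_of_compactSpace g
  choose Ux hUx hxU using fun x : C => exists_isAffineOpen_mem_and_subset (x := x) (U := ⊤) trivial
  obtain ⟨T, hT⟩ := isCompact_univ.elim_finite_subcover (fun x => (Ux x : Set C)) (fun x => (Ux x).2)
    fun x _ => Set.mem_iUnion.2 ⟨x, (hxU x).1⟩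
  let I := Fin (N + 1) × T
  let U : I → C.Opens := fun i => Ux i.2.1
  have hU : ∀ i, IsAffineOpen (U i) := fun i => hUx _
  let V : I → X.Opens := fun i => box f i.1 (U i)
  have hV : ∀ i, IsAffineOpen (V i) := fun i => isAffineOpen_box f i.1 (hU i)
  have hcov : ∀ x : X, ∃ i, x ∈ V i := by
    intro x
    obtain ⟨j, hj⟩ := Opens.mem_iSup.1 (show qP f x ∈ ⨆ j, PnEuler.dOp (n := N) (R := k) j from by
      rw [PnEuler.iSup_dOp]; trivial)
    obtain ⟨t, ht, htx⟩ := Set.mem_iUnion₂.1 (hT (Set.mem_univ (pC f x)))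
    exact ⟨(j, ⟨t, ht⟩), hj, htx⟩
  -- choice of the form
  choose S₀ hS₀f hS₀p hS₀ using fun i : I => exists_bad f hCdim hm hdim i.1 (hU i)
  obtain ⟨c₀, hc₀⟩ := exists_notMem_of_finite (S := (⋃ i, S₀ i) ∪ {⊥})
    ((Set.finite_iUnion hS₀f).union (Set.finite_singleton _)) (by
      rintro p (hp | rfl)
      · obtain ⟨i, hi⟩ := Set.mem_iUnion.1 hp; exact hS₀p i p hi
      · exact bot_ne_top)
  choose S₁ hS₁f hS₁p hS₁ using fun i : I =>
    hS₀ i c₀ fun p hp => hc₀ p (Or.inl (Set.mem_iUnion.2 ⟨i, hp⟩))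
  obtain ⟨c₁, hc₁⟩ := exists_notMem_of_finite (S := (⋃ i, S₁ i) ∪ {Submodule.span k {c₀}})
    ((Set.finite_iUnion hS₁f).union (Set.finite_singleton _)) (by
      rintro p (hp | rfl)
      · obtain ⟨i, hi⟩ := Set.mem_iUnion.1 hp; exact hS₁p i p hi
      · intro h
        have h1 := congrArg (fun W : Submodule k (Fin (N + 1) → k) => Module.finrank k W) h
        rw [finrank_span_singleton (K := k) (v := c₀) (fun h0 => hc₀ ⊥ (Or.inr rfl) (h0 ▸ zero_mem _)),
          finrank_top, Module.finrank_fin_fun] at h1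
        omega)
  choose F hF using fun i : I => hS₁ i c₁ fun p hp => hc₁ p (Or.inl (Set.mem_iUnion.2 ⟨i, hp⟩))
  obtain ⟨a, ha⟩ := Infinite.exists_notMem_finset (Finset.univ.biUnion F)
  set c := c₁ - a • c₀ with hc
  have hgood : ∀ i, Good f i.1 (U i) c := fun i =>
    hF i a fun h => ha (Finset.mem_biUnion.2 ⟨i, Finset.mem_univ _, h⟩)
  have hc0 : c ≠ 0 := fun h => hc₁ _ (Or.inr rfl)
    (Submodule.mem_span_singleton.2 ⟨a, (sub_eq_zero.1 h).symm⟩)
  refine ⟨formHom c, formHom_ne_zero hc0, ?_⟩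
  let K := PicF2.zeroScheme (Twist.twistProjSpace N k 1) (formHom c)
  let J := K.comap (qP f)
  have hJ : ∀ i, J.ideal ⟨V i, hV i⟩ = Ideal.span {lamHom f i.1 (U i) c} := fun i => by
    rw [BlowUpBasics.ideal_comap (qP f) K ⟨PnEuler.dOp i.1, PnEuler.isAffineOpen_dOp i.1⟩ ⟨V i, hV i⟩
      (box_le_qP f i.1 (U i)), zeroScheme_formHom_ideal, Ideal.map_span, Set.image_singleton]
    rfl
  let W : I → J.subscheme.Opens := fun i => J.subschemeι ⁻¹ᵁ V i
  have hW : ∀ i, IsAffineOpen (W i) := fun i => (hV i).preimage J.subschemeι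
  have hWcov : ∀ y, ∃ i, y ∈ W i := fun y => hcov (J.subschemeι y)
  have hred : IsReduced J.subscheme := isReduced_of_affine_cover W hW hWcov fun i => by
    have h2 : _root_.IsReduced (Γ(X, V i) ⧸ J.ideal ⟨V i, hV i⟩) := by
      rw [hJ i]; exact (hgood i).2.1
    exact isReduced_of_injective (J.subschemeObjIso ⟨V i, hV i⟩).hom.hom
      ((ConcreteCategory.bijective_of_isIso _).1)
  have hflat : Flat (J.subschemeι ≫ pC f) := by
    refine flat_of_affine_cover _ W U hW hU (fun i y hy => box_le_pC f i.1 (U i) hy) hWcov fun i => ?_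
    have hcomp : (J.subschemeι ≫ pC f).appLE (U i) (W i) (fun y hy => box_le_pC f i.1 (U i) hy) =
        (pC f).appLE (U i) (V i) (box_le_pC f i.1 (U i)) ≫ J.subschemeι.app (V i) := by
      rw [Scheme.Hom.app_eq_appLE, Scheme.Hom.appLE_comp_appLE]
    rw [hcomp, Scheme.IdealSheafData.subschemeι_app J ⟨V i, hV i⟩, ← Category.assoc, CommRingCat.hom_comp,
      RingHom.Flat.respectsIso.cancel_right_isIso, CommRingCat.hom_comp, CommRingCat.hom_ofHom]
    have h3 := (hgood i).2.2
    have key : ∀ I' : Ideal Γ(X, V i), I' = Ideal.span {lamHom f i.1 (U i) c} →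
        RingHom.Flat ((Ideal.Quotient.mk I').comp (alphaHom f i.1 (U i))) := by
      rintro _ rfl; exact h3
    exact key _ (hJ i)
  have hcomp : ∀ Z ∈ irreducibleComponents (↥J.subscheme : Type u),
      topologicalKrullDim (↥Z : Type u) = (m : WithBot ℕ∞) := by
    intro Z hZ
    obtain ⟨ζ', rfl, hmax⟩ := mem_irreducibleComponents_iff hZ
    let fX : X ⟶ Spec (CommRingCat.of k) := pC f ≫ g
    have : LocallyOfFiniteType fX := inferInstance
    have hh := Dim.height_eq_of_isPreimmersion (J.subschemeι ≫ fX) fX J.subschemeι rfl ζ'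
    rw [Dim.dim_closure_singleton, ← hh]
    set ζ := J.subschemeι ζ' with hζdef
    obtain ⟨i, hi⟩ := hcov ζ
    let τ := lamHom f i.1 (U i) c
    have hrange : ∀ z ∈ V i, (z ∈ Set.range J.subschemeι ↔ z ∉ X.basicOpen τ) := by
      intro z hz
      rw [Scheme.IdealSheafData.range_subschemeι, SetLike.mem_coe,
        Scheme.IdealSheafData.mem_support_iff_of_mem (U := ⟨V i, hV i⟩) hz, hJ i, Scheme.mem_zeroLocus_iff]
      constructor
      · exact fun h => h τ (Ideal.subset_span rfl)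
      · intro h b hb hzb
        obtain ⟨r, rfl⟩ := Ideal.mem_span_singleton'.1 hb
        rw [Scheme.basicOpen_mul] at hzb
        exact h hzb.2
    obtain ⟨P, hPmin, hPζ, hPmax⟩ := exists_maximal_generization (hV i) hi
    have hξ := closure_mem_irreducibleComponents hPmax
    have hξh : Order.height ((hV i).fromSpec P) = (m + 1 : ℕ) := by
      have h1 := hdim _ hξ
      rw [Dim.dim_closure_singleton] at h1
      exact WithBot.coe_injective h1
    have hξa : (hV i).fromSpec P ∈ X.basicOpen τ := by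
      rw [← Scheme.Hom.mem_preimage, (hV i).fromSpec_preimage_basicOpen]
      exact (hgood i).1 _ hPmin
    have h1 := Dim.height_add_one_of_hypersurface fX (hV i) τ hPζ hi hξa
      ((hrange ζ hi).1 ⟨ζ', rfl⟩) fun z _ hzζ hza => by
        obtain ⟨z', rfl⟩ := (hrange z (hzζ.mem_open (V i).2 hi)).2 hza
        rw [hmax z' (J.subschemeι.isEmbedding.isInducing.specializes_iff.1 hzζ)]
    rw [hξh, Nat.cast_add, Nat.cast_one] at h1
    have h2 : Order.height ζ = m :=
      WithTop.add_right_cancel (WithTop.one_ne_top : (1 : ℕ∞) ≠ ⊤) h1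
    rw [h2]; rfl
  -- transfer to the fibre product
  let e := K.comapIso (qP f)
  have he : e.inv ≫ J.subschemeι = pullback.fst (qP f) K.subschemeι :=
    K.comapIso_inv_subschemeι (qP f)
  refine ⟨isReduced_of_isOpenImmersion e.inv, fun Z hZ => ?_, ?_⟩
  · have h1 : e.inv.homeomorph '' Z ∈ irreducibleComponents (↥J.subscheme : Type u) := by
      obtain ⟨ζ, rfl, hmax⟩ := mem_irreducibleComponents_iff hZ
      rw [Homeomorph.image_closure, Set.image_singleton]
      refine closure_mem_irreducibleComponents fun z hz => ?_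
      obtain ⟨z', rfl⟩ := e.inv.homeomorph.surjective z
      rw [hmax z' (e.inv.homeomorph.isInducing.specializes_iff.1 hz)]
    rw [← hcomp _ h1]
    exact IsHomeomorph.topologicalKrullDim_eq _ (e.inv.homeomorph.image Z).isHomeomorph
  · rw [← he, Category.assoc]
    infer_instance

end Groth.BranchVar.Cut
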