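import Groth.Agent.BranchVar.Cut.Global

/-!
# Repeated hyperplane sections
-/

set_option autoImplicit false

universe u

open CategoryTheory CategoryTheory.Limits AlgebraicGeometry TopologicalSpace
open Groth.Variety2

noncomputable section

namespace Groth.BranchVar.Cut

/-- The base change along the intersection of two closed subschemes is the iterated base change. -/
theorem exists_iso_pullback_sup {X P : Scheme.{u}} (q : X ⟶ P) (I J : P.IdealSheafData) :
    ∃ e : pullback q (I ⊔ J).subschemeι ≅ pullback (pullback.fst q I.subschemeι ≫ q) J.subschemeι,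
      e.hom ≫ pullback.fst (pullback.fst q I.subschemeι ≫ q) J.subschemeι ≫ pullback.fst q I.subschemeι =
        pullback.fst q (I ⊔ J).subschemeι := by
  let a := IsClosedImmersion.lift I.subschemeι (I ⊔ J).subschemeι (by simp)
  let b := IsClosedImmersion.lift J.subschemeι (I ⊔ J).subschemeι (by simp)
  let s : pullback q (I ⊔ J).subschemeι ⟶ pullback q I.subschemeι :=
    pullback.lift (pullback.fst _ _) (pullback.snd _ _ ≫ a)
      (by rw [Category.assoc, IsClosedImmersion.lift_fac]; exact pullback.condition)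
  let φ : pullback q (I ⊔ J).subschemeι ⟶ pullback (pullback.fst q I.subschemeι ≫ q) J.subschemeι :=
    pullback.lift s (pullback.snd _ _ ≫ b)
      (by rw [Category.assoc, IsClosedImmersion.lift_fac, pullback.lift_fst_assoc]; exact pullback.condition)
  let t := pullback.fst (pullback.fst q I.subschemeι ≫ q) J.subschemeι ≫ pullback.fst q I.subschemeι
  have ht : (I ⊔ J).subschemeι.ker ≤ (t ≫ q).ker := by
    rw [Scheme.IdealSheafData.ker_subschemeι]
    refine sup_le ?_ ?_
    · have : t ≫ q = (pullback.fst (pullback.fst q I.subschemeι ≫ q) J.subschemeι ≫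
          pullback.snd q I.subschemeι) ≫ I.subschemeι := by
        simp only [t, Category.assoc, pullback.condition]
      rw [this]
      exact I.ker_subschemeι.symm.le.trans (Scheme.Hom.le_ker_comp _ _)
    · have : t ≫ q = pullback.snd (pullback.fst q I.subschemeι ≫ q) J.subschemeι ≫ J.subschemeι := by
        rw [← pullback.condition, Category.assoc]
      rw [this]
      exact J.ker_subschemeι.symm.le.trans (Scheme.Hom.le_ker_comp _ _)
  let ψ : pullback (pullback.fst q I.subschemeι ≫ q) J.subschemeι ⟶ pullback q (I ⊔ J).subschemeι :=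
    pullback.lift t (IsClosedImmersion.lift (I ⊔ J).subschemeι (t ≫ q) ht)
      (IsClosedImmersion.lift_fac _ _ _).symm
  have hφ : φ ≫ t = pullback.fst q (I ⊔ J).subschemeι := by
    simp only [φ, t, pullback.lift_fst_assoc, s, pullback.lift_fst]
  have hψ : ψ ≫ pullback.fst q (I ⊔ J).subschemeι = t := pullback.lift_fst _ _ _
  have : Mono t := inferInstance
  exact ⟨⟨φ, ψ, by rw [← cancel_mono (pullback.fst q (I ⊔ J).subschemeι), Category.assoc, hψ, hφ,
    Category.id_comp], by rw [← cancel_mono t, Category.assoc, hφ, hψ, Category.id_comp]⟩, hφ⟩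

theorem dim_components_of_iso {X Y : Scheme.{u}} (e : X ⟶ Y) [IsIso e] (d : WithBot ℕ∞)
    (h : ∀ Z ∈ irreducibleComponents (↥Y : Type u), topologicalKrullDim (↥Z : Type u) = d) :
    ∀ Z ∈ irreducibleComponents (↥X : Type u), topologicalKrullDim (↥Z : Type u) = d := by
  intro Z hZ
  have h1 : e.homeomorph '' Z ∈ irreducibleComponents (↥Y : Type u) := by
    obtain ⟨ζ, rfl, hmax⟩ := mem_irreducibleComponents_iff hZ
    rw [Homeomorph.image_closure, Set.image_singleton]
    refine closure_mem_irreducibleComponents fun z hz => ?_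
    obtain ⟨z', rfl⟩ := e.homeomorph.surjective z
    rw [hmax z' (e.homeomorph.isInducing.specializes_iff.1 hz)]
  rw [← h _ h1]
  exact IsHomeomorph.topologicalKrullDim_eq _ (e.homeomorph.image Z).isHomeomorph

variable {k : Type u} [Field k] [IsAlgClosed k] [CharZero k] {N : ℕ} {C : Scheme.{u}}
  {g : C ⟶ Spec (CommRingCat.of k)} [IsIntegral C] [Smooth g] [IsProper g]

/-- `m` general hyperplanes cut a curve, reduced and flat over the base curve. -/
theorem exists_cuts (hN : 1 ≤ N) (hCdim : topologicalKrullDim C = 1) :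
    ∀ (m : ℕ) (X : Scheme.{u}) (f : X ⟶ pullback (CohB1.ProjSpace.toSpec N k) g) [IsFinite f]
      [IsReduced X] [Flat (pC f)]
      (_ : ∀ Z ∈ irreducibleComponents (↥X : Type u),
        topologicalKrullDim (↥Z : Type u) = ((m + 1 : ℕ) : WithBot ℕ∞)),
      ∃ s : Fin m → (Coh.structureModule (CohB1.ProjSpace N k) ⟶ Twist.twistProjSpace N k 1),
        IsReduced (pullback (qP f)
          (⨆ i : Fin m, PicF2.zeroScheme (Twist.twistProjSpace N k 1) (s i)).subschemeι) ∧
        (∀ Z ∈ irreducibleComponents (↥(pullback (qP f)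
            (⨆ i : Fin m, PicF2.zeroScheme (Twist.twistProjSpace N k 1) (s i)).subschemeι) : Type u),
          topologicalKrullDim (↥Z : Type u) = ((1 : ℕ) : WithBot ℕ∞)) ∧
        Flat (pullback.fst (qP f)
          (⨆ i : Fin m, PicF2.zeroScheme (Twist.twistProjSpace N k 1) (s i)).subschemeι ≫ pC f) := by
  intro m
  induction m with
  | zero =>
    intro X f _ _ _ hdim
    refine ⟨Fin.elim0, ?_⟩
    have h0 : (⨆ i : Fin 0, PicF2.zeroScheme (Twist.twistProjSpace N k 1) (Fin.elim0 i)) = ⊥ :=
      iSup_of_empty _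
    rw [h0]
    exact ⟨isReduced_of_isOpenImmersion (pullback.fst (qP f) _),
      dim_components_of_iso (pullback.fst (qP f) _) _ hdim, inferInstance⟩
  | succ m ih =>
    intro X f _ _ _ hdim
    obtain ⟨s₀, -, hr, hd, hf⟩ := exists_cut f hN hCdim (Nat.le_add_left 1 m) hdim
    let I := PicF2.zeroScheme (Twist.twistProjSpace N k 1) s₀
    let f₁ := pullback.fst (qP f) I.subschemeι ≫ f
    have : Flat (pC f₁) := by
      show Flat ((pullback.fst (qP f) I.subschemeι ≫ f) ≫ _)
      rw [Category.assoc]
      exact hf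
    obtain ⟨s, hr', hd', hf'⟩ := ih _ f₁ hd
    let J := ⨆ i : Fin m, PicF2.zeroScheme (Twist.twistProjSpace N k 1) (s i)
    refine ⟨Fin.cons s₀ s, ?_⟩
    have h0 : (⨆ i : Fin (m + 1), PicF2.zeroScheme (Twist.twistProjSpace N k 1)
        ((Fin.cons s₀ s : Fin (m + 1) → _) i)) = I ⊔ J := by
      refine le_antisymm (iSup_le fun i => ?_) (sup_le ?_ (iSup_le fun i => ?_))
      · induction i using Fin.cases with
        | zero => rw [Fin.cons_zero]; exact le_sup_left
        | succ i =>
          rw [Fin.cons_succ]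
          exact (le_iSup (fun i => PicF2.zeroScheme (Twist.twistProjSpace N k 1) (s i)) i).trans le_sup_right
      · exact le_iSup_of_le 0 (by rw [Fin.cons_zero])
      · exact le_iSup_of_le i.succ (by rw [Fin.cons_succ])
    rw [h0]
    have hq : qP f₁ = pullback.fst (qP f) I.subschemeι ≫ qP f := Category.assoc _ _ _
    have hp : pC f₁ = pullback.fst (qP f) I.subschemeι ≫ pC f := Category.assoc _ _ _
    have main : ∀ (q₁ : pullback (qP f) I.subschemeι ⟶ CohB1.ProjSpace N k)
        (p₁ : pullback (qP f) I.subschemeι ⟶ C),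
        q₁ = pullback.fst (qP f) I.subschemeι ≫ qP f → p₁ = pullback.fst (qP f) I.subschemeι ≫ pC f →
        IsReduced (pullback q₁ J.subschemeι) →
        (∀ Z ∈ irreducibleComponents (↥(pullback q₁ J.subschemeι) : Type u),
          topologicalKrullDim (↥Z : Type u) = ((1 : ℕ) : WithBot ℕ∞)) →
        Flat (pullback.fst q₁ J.subschemeι ≫ p₁) →
        IsReduced (pullback (qP f) (I ⊔ J).subschemeι) ∧
        (∀ Z ∈ irreducibleComponents (↥(pullback (qP f) (I ⊔ J).subschemeι) : Type u),
          topologicalKrullDim (↥Z : Type u) = ((1 : ℕ) : WithBot ℕ∞)) ∧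
        Flat (pullback.fst (qP f) (I ⊔ J).subschemeι ≫ pC f) := by
      rintro _ _ rfl rfl r d fl
      obtain ⟨e, he⟩ := exists_iso_pullback_sup (qP f) I J
      refine ⟨isReduced_of_isOpenImmersion e.hom, dim_components_of_iso e.hom _ d, ?_⟩
      rw [← he, Category.assoc, Category.assoc]
      infer_instance
    exact main _ _ hq hp hr' hd' hf'

end Groth.BranchVar.Cut
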