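import Groth.Agent.PnHyper.Basic
import Groth.Agent.PnEuler.Chart

/-!
# The zero scheme of a linear form on the standard charts
-/

set_option autoImplicit false

universe u

open CategoryTheory AlgebraicGeometry MvPolynomial
open Groth.PicAux Groth.Ega2Proj

noncomputable section

namespace Groth.BranchVar.Cut

variable {k : Type u} [Field k] {N : ℕ}

/-- The section of `O(1)` of a coefficient vector. -/
abbrev formHom (c : Fin (N + 1) → k) :
    Coh.structureModule (CohB1.ProjSpace N k) ⟶ Twist.twistProjSpace N k 1 :=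
  homOfSection (PnHyper.linSec c)

theorem formHom_ne_zero {c : Fin (N + 1) → k} (hc : c ≠ 0) : formHom c ≠ 0 := fun h =>
  PnHyper.linSec_ne_zero hc ((homOfSection_one (PnHyper.linSec c)).symm.trans
    (congr(($h).app ⊤ (oneSec _ ⊤)).trans rfl))

/-- The function `(∑ c_i X_i) / X_j` on the standard chart. -/
def chartForm (j : Fin (N + 1)) (c : Fin (N + 1) → k) :
    Γ(CohB1.ProjSpace N k, PnEuler.dOp j) :=
  ∑ i, PnEuler.scal (PnEuler.dOp j) (c i) * PnEuler.tt j i

/-- The ideal of the hyperplane on a standard chart. -/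
theorem zeroScheme_formHom_ideal (j : Fin (N + 1)) (c : Fin (N + 1) → k) :
    (PicF2.zeroScheme (Twist.twistProjSpace N k 1) (formHom c)).ideal
        ⟨PnEuler.dOp j, PnEuler.isAffineOpen_dOp j⟩ = Ideal.span {chartForm j c} := by
  have hU : ∀ x : ProjectiveSpectrum (CohB1.polyGrading N k), x ∈ PnEuler.dOp (R := k) j →
      (1 : MvPolynomial (Fin (N + 1)) k) ∉ x.asHomogeneousIdeal := fun x _ => PnEuler.one_notMem x
  have hgen : Gen (Twist.twistProjSpace N k 1) (PnEuler.dOp j)
      (fracGen (𝒜 := CohB1.polyGrading N k) (Groth.Chow.ToPn.X_mem j)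
        SetLike.GradedOne.one_mem (n := 1) rfl (PnEuler.dOp j) hU) :=
    gen_fracGen _ _ _ _ _ fun _ hx => hx
  refine Groth.Variety2.Zero.zeroScheme_ideal_eq_span (Groth.PnCoh.isInvertible_twist N k 1) _ _ hgen ?_
  refine PnEuler.val_ext fun x hx => ?_
  rw [← Groth.Variety2.Zero.res_val _ (formHom c) le_top]
  refine Eq.trans ?_ (PnEuler.val_smul _ _ x hx).symm
  refine Eq.trans (b := algebraMap _ (Twist.Loc (CohB1.polyGrading N k) x) (∑ i, C (c i) * X i)) ?_ ?_
  · exact congrArg (fun t : Γ(Twist.twistProjSpace N k 1, ⊤) => PnEuler.val t x trivial)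
      (homOfSection_one (PnHyper.linSec c)) |>.trans (PnHyper.val_linSec c x)
  · rw [chartForm, map_sum (PnEuler.evalPt (PnEuler.dOp j) x hx), Finset.sum_mul, map_sum]
    refine Finset.sum_congr rfl fun i _ => ?_
    rw [map_mul (PnEuler.evalPt (PnEuler.dOp j) x hx), PnEuler.evalPt_scal, PnEuler.evalPt_tt, map_mul,
      mul_assoc]
    congr 1
    refine Eq.trans ?_ (congrArg _ (wval_fracGen _ _ _ _ hU x hx).symm)
    refine Eq.trans ?_ (lfrac_mul_lfrac _ x _ _ (fun h => (x.isPrime.mem_or_mem h).elim hx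
      (hU x hx))).symm
    rw [← Localization.mk_one_eq_algebraMap, lfrac, Localization.mk_eq_mk_iff, Localization.r_iff_exists]
    exact ⟨1, by simp; ring⟩

end Groth.BranchVar.Cut
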