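import Mathlib
import Groth.Agent.Calg4.SmoothReduced

/-!
# Cutting an algebra over a Dedekind domain by the members of a pencil
-/

set_option autoImplicit false

universe u

open scoped TensorProduct Polynomial

namespace Groth.BranchVar.Cut

variable {k : Type u} [Field k] {A : Type u} [CommRing A] {B : Type u} [CommRing B] [Algebra A B]

/-- A minimal prime of a reduced algebra dominating a domain is a smooth point in characteristic
zero. -/
theorem isSmoothAt_minimal {R : Type u} [CommRing R] [IsDomain R] [CharZero R] [Algebra R B]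
    [Algebra.FiniteType R B] [IsReduced B] (P : Ideal B) [P.IsPrime] (hP : P ∈ minimalPrimes B)
    (hinj : ∀ r : R, algebraMap R B r ∈ P → r = 0) : Algebra.IsSmoothAt R P := by
  have : Ring.KrullDimLE 0 (Localization.AtPrime P) := .of_isLocalization _ hP _
  let L := Localization.AtPrime P
  let : Field L := (Ring.KrullDimLE.isField_of_isReduced (R := Localization.AtPrime P)).toField
  have hRL : Function.Injective (algebraMap R L) := by
    rw [injective_iff_map_eq_zero]
    intro r hr
    refine hinj r ?_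
    by_contra h
    rw [IsScalarTower.algebraMap_apply R B L] at hr
    exact ((IsLocalization.map_units L (⟨_, h⟩ : P.primeCompl)).ne_zero) hr
  let K := FractionRing R
  let : Algebra K L := (IsFractionRing.lift hRL : K →+* L).toAlgebra
  have : IsScalarTower R K L := IsScalarTower.of_algebraMap_eq fun x => by
    rw [RingHom.algebraMap_toAlgebra, IsFractionRing.lift_algebraMap]
  have : Algebra.EssFiniteType B L := Algebra.EssFiniteType.of_isLocalization L P.primeCompl
  have : Algebra.EssFiniteType R L := Algebra.EssFiniteType.comp R B L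
  have : Algebra.EssFiniteType K L := Algebra.EssFiniteType.of_comp R K L
  have : CharZero K := charZero_of_injective_algebraMap (IsFractionRing.injective R K)
  have : Algebra.FormallySmooth K L := Algebra.FormallySmooth.of_perfectField
  have : Algebra.FormallySmooth R K := Algebra.FormallySmooth.of_isLocalization (nonZeroDivisors R)
  exact Algebra.FormallySmooth.comp R K L

/-- An element outside all minimal primes of a reduced ring is a non zero divisor. -/
theorem eq_zero_of_mul {b y : B} [IsReduced B] (hb : ∀ P ∈ minimalPrimes B, b ∉ P)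
    (h : b * y = 0) : y = 0 := by
  have hy : y ∈ sInf (minimalPrimes B) := Ideal.mem_sInf.mpr fun {P} hP =>
    (hP.1.1.mem_or_mem (h ▸ P.zero_mem : b * y ∈ P)).resolve_left (hb P hP)
  rwa [show minimalPrimes B = (⊥ : Ideal B).minimalPrimes from rfl, Ideal.sInf_minimalPrimes,
    Ideal.radical_bot_of_noZeroDivisors] at hy

/-- Associated primes of two principal quotients containing both generators agree. -/
theorem mem_associatedPrimes_of_mem [IsNoetherianRing B] {b l : B}
    (hb : ∀ y, b * y = 0 → y = 0) (hl : ∀ y, l * y = 0 → y = 0) {q : Ideal B}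
    (hq : q ∈ associatedPrimes B (B ⧸ Ideal.span {b})) (hlq : l ∈ q) :
    q ∈ associatedPrimes B (B ⧸ Ideal.span {l}) := by
  rw [AssociatedPrimes.mem_iff, isAssociatedPrime_iff] at hq ⊢
  obtain ⟨hqp, x, hx⟩ := hq
  obtain ⟨x, rfl⟩ := Ideal.Quotient.mk_surjective x
  have hmem : ∀ y, y ∈ q ↔ b ∣ y * x := fun y => by
    rw [hx, Submodule.mem_colon_singleton, Submodule.mem_bot, Algebra.smul_def,
      Ideal.Quotient.algebraMap_eq, ← map_mul, Ideal.Quotient.eq_zero_iff_mem,
      Ideal.mem_span_singleton]
  obtain ⟨z, hz⟩ := (hmem l).1 hlq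
  refine ⟨hqp, Ideal.Quotient.mk _ z, ?_⟩
  ext y
  rw [hmem, Submodule.mem_colon_singleton, Submodule.mem_bot, Algebra.smul_def,
    Ideal.Quotient.algebraMap_eq, ← map_mul, Ideal.Quotient.eq_zero_iff_mem,
    Ideal.mem_span_singleton]
  constructor
  · rintro ⟨w, hw⟩
    refine ⟨w, sub_eq_zero.1 (hb _ ?_)⟩
    linear_combination (-y) * hz + l * hw
  · rintro ⟨w, hw⟩
    refine ⟨w, sub_eq_zero.1 (hl _ ?_)⟩
    linear_combination y * hz + b * hw

variable [IsDedekindDomain A] [Algebra k A] [Algebra k B] [IsScalarTower k A B] [IsReduced B]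
  [Algebra.FiniteType A B] [CharZero k]

/-- All but finitely many members of a pencil cut out a reduced flat algebra. -/
theorem exists_good_finset (l0 l1 : B) (h0 : ∀ P ∈ minimalPrimes B, l0 ∉ P)
    (h1 : ∀ (P : Ideal B) [P.IsPrime], P ∈ minimalPrimes B →
      Transcendental A (algebraMap B P.ResidueField l1 / algebraMap B P.ResidueField l0))
    (hAss : ∀ q ∈ associatedPrimes B (B ⧸ Ideal.span {l0}), l1 ∉ q) :
    ∃ F : Finset k, ∀ a ∉ F,
      (∀ P ∈ minimalPrimes B, l1 - algebraMap k B a * l0 ∉ P) ∧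
      IsReduced (B ⧸ Ideal.span {l1 - algebraMap k B a * l0}) ∧
      Module.Flat A (B ⧸ Ideal.span {l1 - algebraMap k B a * l0}) := by
  classical
  have : IsNoetherianRing B := Algebra.FiniteType.isNoetherianRing A B
  have : CharZero A := charZero_of_injective_algebraMap (algebraMap k A).injective
  -- transcendence at the minimal primes
  have hnotmem : ∀ (a : k) (P : Ideal B), P ∈ minimalPrimes B → l1 - algebraMap k B a * l0 ∉ P := by
    intro a P hP hmem
    have := hP.1.1
    refine h1 P hP ⟨Polynomial.X - Polynomial.C (algebraMap k A a), Polynomial.X_sub_C_ne_zero _, ?_⟩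
    have hl0 : algebraMap B P.ResidueField l0 ≠ 0 := by
      rw [Ne, Ideal.algebraMap_residueField_eq_zero]; exact h0 P hP
    have := (Ideal.algebraMap_residueField_eq_zero).2 hmem
    rw [map_sub, map_mul, sub_eq_zero, ← IsScalarTower.algebraMap_apply k B,
      IsScalarTower.algebraMap_apply k A] at this
    rw [map_sub, Polynomial.aeval_X, Polynomial.aeval_C, this, mul_div_assoc, div_self hl0, mul_one,
      sub_self]
  -- the pencil parameter
  let B₁ := Localization.Away l0
  let u := IsLocalization.Away.invSelf (S := B₁) l0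
  have hu : algebraMap B B₁ l0 * u = 1 := IsLocalization.Away.mul_invSelf l0
  let t : B₁ := algebraMap B B₁ l1 * u
  let : Algebra A[X] B₁ := (Polynomial.aeval t).toRingHom.toAlgebra
  have : IsScalarTower A A[X] B₁ := IsScalarTower.of_algebraMap_eq fun x =>
    (Polynomial.aeval_C t x).symm
  have : Algebra.FiniteType A B₁ := Algebra.FiniteType.trans (S := B) inferInstance
    (IsLocalization.finiteType_of_monoid_fg (.powers l0) B₁)
  have : Algebra.FiniteType A[X] B₁ := Algebra.FiniteType.of_restrictScalars_finiteType A A[X] B₁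
  have : Algebra.FinitePresentation A[X] B₁ := Algebra.FinitePresentation.of_finiteType.1 inferInstance
  have : _root_.IsReduced B₁ := inferInstance
  have hsm : ∀ Q : PrimeSpectrum B₁, Q.asIdeal ∈ minimalPrimes B₁ → Q ∈ Algebra.smoothLocus A[X] B₁ := by
    intro Q hQ
    refine isSmoothAt_minimal Q.asIdeal hQ fun p hp => ?_
    by_contra hp0
    let P := Q.asIdeal.comap (algebraMap B B₁)
    have hPm : P ∈ minimalPrimes B := by
      have := IsLocalization.minimalPrimes_comap (.powers l0) B₁ (⊥ : Ideal B₁)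
      rw [show Ideal.comap (algebraMap B B₁) ⊥ = ⊥ from ?_] at this
      · exact this.symm.subset ⟨Q.asIdeal, hQ, rfl⟩
      · refine le_antisymm (fun y hy => ?_) bot_le
        rw [Ideal.mem_comap, Submodule.mem_bot, IsLocalization.map_eq_zero_iff (.powers l0)] at hy
        obtain ⟨⟨_, n, rfl⟩, hy⟩ := hy
        refine eq_zero_of_mul (fun P hP hm => h0 P hP (hP.1.1.mem_of_pow_mem n hm)) hy
    have : P.IsPrime := hPm.1.1
    have hl0 : algebraMap B P.ResidueField l0 ≠ 0 := by
      rw [Ne, Ideal.algebraMap_residueField_eq_zero]; exact h0 P hPm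
    let ψ : B₁ →+* P.ResidueField := IsLocalization.Away.lift l0 (g := algebraMap B P.ResidueField)
      (Ne.isUnit hl0)
    have hψker : ∀ z ∈ Q.asIdeal, ψ z = 0 := by
      intro z hz
      obtain ⟨⟨y, s⟩, hy⟩ := IsLocalization.surj (.powers l0) z
      have hyP : y ∈ P := by
        rw [Ideal.mem_comap, ← hy]; exact Q.asIdeal.mul_mem_right _ hz
      have h2 := congrArg ψ hy
      rw [map_mul, IsLocalization.Away.lift_eq, IsLocalization.Away.lift_eq,
        Ideal.algebraMap_residueField_eq_zero.2 hyP, mul_eq_zero] at h2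
      refine h2.resolve_right ?_
      obtain ⟨n, hn⟩ := s.2
      rw [← hn, map_pow]
      exact pow_ne_zero _ hl0
    let ψA : B₁ →ₐ[A] P.ResidueField := { ψ with
      commutes' := fun x => by
        show ψ (algebraMap A B₁ x) = _
        rw [IsScalarTower.algebraMap_apply A B B₁, IsLocalization.Away.lift_eq,
          ← IsScalarTower.algebraMap_apply A B] }
    have hψt : ψA t = algebraMap B P.ResidueField l1 / algebraMap B P.ResidueField l0 := by
      show ψ t = _
      have h2 := congrArg ψ hu
      rw [map_mul, IsLocalization.Away.lift_eq, map_one] at h2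
      rw [map_mul, IsLocalization.Away.lift_eq, eq_div_iff hl0, mul_assoc, mul_comm (ψ u), h2, mul_one]
    refine h1 P hPm ⟨p, hp0, ?_⟩
    rw [← hψt, Polynomial.aeval_algHom_apply]
    exact hψker _ hp
  -- prime avoidance
  obtain ⟨I, hI⟩ := (PrimeSpectrum.isClosed_iff_zeroLocus_ideal _).1
    (Algebra.isOpen_smoothLocus (R := A[X]) (A := B₁)).isClosed_compl
  have hnot : ¬ (I : Set B₁) ⊆ ⋃ Q ∈ minimalPrimes B₁, (Q : Set B₁) := by
    intro hsub
    have hfin := minimalPrimes.finite_of_isNoetherianRing B₁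
    obtain ⟨Q, hQ, hle⟩ := (Ideal.subset_union_prime_finite hfin (⊥ : Ideal B₁) ⊥
      fun Q hQ _ _ => hQ.1.1).1 hsub
    have : (⟨Q, hQ.1.1⟩ : PrimeSpectrum B₁) ∈ (Algebra.smoothLocus A[X] B₁)ᶜ := by
      rw [hI]; exact hle
    exact this (hsm _ hQ)
  obtain ⟨b₁, hb₁I, hb₁⟩ := Set.not_subset.1 hnot
  have hb₁sm : (PrimeSpectrum.basicOpen b₁ : Set (PrimeSpectrum B₁)) ⊆ Algebra.smoothLocus A[X] B₁ := by
    intro Q hQ
    by_contra h
    have : Q ∈ PrimeSpectrum.zeroLocus (I : Set B₁) := hI ▸ h
    exact hQ (this hb₁I)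
  rw [Algebra.basicOpen_subset_smoothLocus_iff_smooth] at hb₁sm
  let b := (IsLocalization.Away.sec l0 b₁).1 * l0
  let Bb := Localization.Away b₁
  have hsec : Associated (algebraMap B B₁ (IsLocalization.Away.sec l0 b₁).1) b₁ :=
    IsLocalization.Away.associated_sec_fst l0 b₁
  have hloc : IsLocalization.Away b Bb := by
    have : IsLocalization.Away (algebraMap B B₁ (IsLocalization.Away.sec l0 b₁).1) Bb :=
      IsLocalization.Away.of_associated hsec.symm
    exact IsLocalization.Away.mul B₁ Bb l0 _
  have hb : ∀ P ∈ minimalPrimes B, b ∉ P := by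
    intro P hP hmem
    have := hP.1.1
    have hd : Disjoint (Submonoid.powers l0 : Set B) (P : Set B) := by
      rw [Set.disjoint_left]
      rintro _ ⟨n, rfl⟩ hn
      exact h0 P hP (hP.1.1.mem_of_pow_mem n hn)
    have hQ : P.map (algebraMap B B₁) ∈ minimalPrimes B₁ := by
      have := IsLocalization.minimalPrimes_map (.powers l0) B₁ (⊥ : Ideal B)
      rw [Ideal.map_bot] at this
      rw [show minimalPrimes B₁ = (⊥ : Ideal B₁).minimalPrimes from rfl, this, Set.mem_preimage,
        IsLocalization.comap_map_of_isPrime_disjoint (.powers l0) B₁ inferInstance hd]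
      exact hP
    refine hb₁ (Set.mem_iUnion₂.2 ⟨_, hQ, ?_⟩)
    obtain ⟨w, hw⟩ := hsec.dvd
    rw [hw]
    exact Ideal.mul_mem_right _ _ (Ideal.mem_map_of_mem _ ((hP.1.1.mem_or_mem hmem).resolve_right (h0 P hP)))
  have hbreg : ∀ y, b * y = 0 → y = 0 := fun y => eq_zero_of_mul hb
  have hlreg : ∀ y, l0 * y = 0 → y = 0 := fun y => eq_zero_of_mul h0
  -- the finite set
  let Aq := associatedPrimes B (B ⧸ Ideal.span {b})
  have hAq : Aq.Finite := associatedPrimes.finite B _
  let Fs : Set k := ⋃ q ∈ Aq, {a | l1 - algebraMap k B a * l0 ∈ q}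
  have hFs : Fs.Finite := by
    refine hAq.biUnion fun q hq => Set.Subsingleton.finite fun a ha a' ha' => ?_
    by_contra hne
    have hqp : q.IsPrime := hq.1
    have h2 : algebraMap k B (a' - a) * l0 ∈ q := by
      have := q.sub_mem ha ha'
      convert this using 1
      rw [map_sub]; ring
    have hl : l0 ∈ q := (hqp.mem_or_mem h2).resolve_left fun h =>
      hqp.ne_top (Ideal.eq_top_of_isUnit_mem _ h ((sub_ne_zero.2 (Ne.symm hne)).isUnit.map _))
    refine hAss q (mem_associatedPrimes_of_mem hbreg hlreg hq hl) ?_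
    have := q.add_mem ha (q.mul_mem_left (algebraMap k B a) hl)
    rwa [sub_add_cancel] at this
  refine ⟨hFs.toFinset, fun a ha => ⟨hnotmem a, ?_⟩⟩
  rw [Set.Finite.mem_toFinset] at ha
  set τ := l1 - algebraMap k B a * l0 with hτdef
  have hτ : ∀ y, b ∣ τ * y → b ∣ y := by
    intro y hy
    by_contra hny
    refine ha ?_
    have hz : τ ∈ ⋃ q ∈ associatedPrimes B (B ⧸ Ideal.span {b}), (q : Set B) := by
      rw [biUnion_associatedPrimes_eq_zero_divisors]
      refine ⟨Ideal.Quotient.mk _ y, ?_, ?_⟩
      · rwa [Ne, Ideal.Quotient.eq_zero_iff_mem, Ideal.mem_span_singleton]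
      · rwa [Algebra.smul_def, Ideal.Quotient.algebraMap_eq, ← map_mul,
          Ideal.Quotient.eq_zero_iff_mem, Ideal.mem_span_singleton]
    obtain ⟨q, hq, hτq⟩ := Set.mem_iUnion₂.1 hz
    exact Set.mem_iUnion₂.2 ⟨q, hq, hτq⟩
  have hbτ : ∀ (j : ℕ) (x : B), τ ∣ b ^ j * x → τ ∣ x := by
    intro j
    induction j with
    | zero => simp
    | succ j ih =>
      intro x hx
      obtain ⟨y, hy⟩ := ih (b * x) (by rwa [← mul_assoc, ← pow_succ])
      obtain ⟨z, rfl⟩ := hτ y ⟨x, hy.symm⟩
      exact ⟨z, sub_eq_zero.1 (hbreg _ (by linear_combination hy))⟩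
  -- the smooth algebra
  have := hb₁sm
  let ev : A[X] →+* A := Polynomial.evalRingHom (algebraMap k A a)
  let : Algebra A[X] A := ev.toAlgebra
  have : _root_.IsReduced (A ⊗[A[X]] Bb) := Groth.Calg4.isReduced_of_smooth A (A ⊗[A[X]] Bb)
  let π : B →+* (A ⊗[A[X]] Bb) := (Algebra.TensorProduct.includeRight (R := A[X]) (A := A) (B := Bb)).toRingHom.comp (algebraMap B Bb)
  let J : Ideal Bb := Ideal.span {algebraMap B Bb τ}
  let mA : A →+* (Bb ⧸ J) := (Ideal.Quotient.mk J).comp (algebraMap A Bb)
  have hcomm : ∀ p : A[X], mA (ev p) = Ideal.Quotient.mk J (algebraMap A[X] Bb p) := by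
    intro p
    have hX : Ideal.Quotient.mk J (algebraMap A[X] Bb Polynomial.X) =
        mA (algebraMap k A a) := by
      show _ = Ideal.Quotient.mk J _
      rw [Ideal.Quotient.mk_eq_mk_iff_sub_mem, Ideal.mem_span_singleton]
      refine ⟨algebraMap B₁ Bb u, ?_⟩
      rw [IsScalarTower.algebraMap_apply A[X] B₁ Bb, IsScalarTower.algebraMap_apply B B₁ Bb,
        IsScalarTower.algebraMap_apply A B₁ Bb, ← map_sub, ← map_mul]
      congr 1
      rw [show algebraMap A[X] B₁ Polynomial.X = t from Polynomial.aeval_X t, hτdef, map_sub, map_mul,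
        IsScalarTower.algebraMap_apply A B B₁, ← IsScalarTower.algebraMap_apply k A B]
      linear_combination (algebraMap B B₁ (algebraMap k B a)) * hu
    induction p using Polynomial.induction_on' with
    | add p q hp hq => rw [map_add, map_add, map_add, map_add, hp, hq]
    | monomial n c =>
      rw [← Polynomial.C_mul_X_pow_eq_monomial, map_mul, map_mul, map_mul, map_pow, map_pow, map_pow,
        map_mul, map_pow, hX]
      congr 1
      · show mA (Polynomial.eval _ (Polynomial.C c)) = _
        rw [Polynomial.eval_C, show Polynomial.C c = algebraMap A A[X] c from rfl,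
          ← IsScalarTower.algebraMap_apply A A[X] Bb]
        rfl
      · show (mA (Polynomial.eval _ Polynomial.X)) ^ n = _
        rw [Polynomial.eval_X]
  let fA : A →ₐ[A[X]] (Bb ⧸ J) := { mA with commutes' := hcomm }
  let θ : (A ⊗[A[X]] Bb) →ₐ[A[X]] (Bb ⧸ J) := Algebra.TensorProduct.lift fA (Ideal.Quotient.mkₐ A[X] J) fun x y => mul_comm (fA x) (Ideal.Quotient.mkₐ A[X] J y)
  have hCA : ∀ x : A, algebraMap A[X] (A ⊗[A[X]] Bb) (algebraMap A A[X] x) =
      algebraMap A (A ⊗[A[X]] Bb) x := fun x => by
    rw [IsScalarTower.algebraMap_apply A[X] A (A ⊗[A[X]] Bb)]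
    congr 1
    exact Polynomial.eval_C
  have hC' : ∀ p : A[X], algebraMap A[X] (A ⊗[A[X]] Bb) p = algebraMap A (A ⊗[A[X]] Bb) (ev p) :=
    fun p => IsScalarTower.algebraMap_apply A[X] A (A ⊗[A[X]] Bb) p
  have hker : ∀ x, π x = 0 ↔ x ∈ Ideal.span {τ} := by
    intro x
    rw [Ideal.mem_span_singleton]
    constructor
    · intro hx
      have h2 : Ideal.Quotient.mk J (algebraMap B Bb x) = 0 := by
        have := congrArg θ hx
        rw [map_zero] at this
        simp [π, θ] at this
        exact (one_mul _).symm.trans this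
      rw [Ideal.Quotient.eq_zero_iff_mem, Ideal.mem_span_singleton] at h2
      obtain ⟨w, hw⟩ := h2
      obtain ⟨⟨y, s⟩, hy⟩ := IsLocalization.surj (.powers b) w
      obtain ⟨_, n, rfl⟩ := s
      have h3 : algebraMap B Bb (b ^ n * x) = algebraMap B Bb (τ * y) := by
        rw [map_mul, map_mul, hw, ← hy]; ring
      obtain ⟨⟨_, m, rfl⟩, hm⟩ := (IsLocalization.eq_iff_exists (.powers b) Bb).1 h3
      refine hbτ (m + n) x ⟨b ^ m * y, ?_⟩
      simp only at hm
      linear_combination hm
    · rintro ⟨y, rfl⟩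
      suffices hτ0 : π τ = 0 by
        rw [map_mul, hτ0]
        exact zero_mul (π y)
      have hτb : algebraMap B Bb τ = algebraMap B Bb l0 *
          (algebraMap A[X] Bb Polynomial.X - algebraMap A Bb (algebraMap k A a)) := by
        rw [IsScalarTower.algebraMap_apply A[X] B₁ Bb, IsScalarTower.algebraMap_apply B B₁ Bb,
          IsScalarTower.algebraMap_apply B B₁ Bb,
          IsScalarTower.algebraMap_apply A B₁ Bb, ← map_sub, ← map_mul]
        congr 1
        rw [show algebraMap A[X] B₁ Polynomial.X = t from Polynomial.aeval_X t, hτdef, map_sub, map_mul,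
          IsScalarTower.algebraMap_apply A B B₁, ← IsScalarTower.algebraMap_apply k A B]
        linear_combination -(algebraMap B B₁ l1) * hu
      show (Algebra.TensorProduct.includeRight (R := A[X]) (A := A) (B := Bb)) (algebraMap B Bb τ) = 0
      rw [hτb, map_mul, map_sub, IsScalarTower.algebraMap_apply A A[X] Bb, AlgHom.commutes,
        AlgHom.commutes, hCA, hC', show ev Polynomial.X = algebraMap k A a from Polynomial.eval_X,
        sub_self, mul_zero]
  let ρ : B ⧸ Ideal.span {τ} →+* (A ⊗[A[X]] Bb) := Ideal.Quotient.lift (S := A ⊗[A[X]] Bb) _ π fun x hx => (hker x).2 hx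
  have hρ : Function.Injective ρ := by
    rw [injective_iff_map_eq_zero]
    intro x hx
    obtain ⟨x, rfl⟩ := Ideal.Quotient.mk_surjective x
    rw [Ideal.Quotient.eq_zero_iff_mem, ← hker]
    exact hx
  refine ⟨isReduced_of_injective ρ hρ, ?_⟩
  have hρA : ∀ x : A, ρ (algebraMap A _ x) = algebraMap A (A ⊗[A[X]] Bb) x := fun x => by
    show π (algebraMap A B x) = _
    show (Algebra.TensorProduct.includeRight (R := A[X]) (A := A) (B := Bb)) (algebraMap B Bb (algebraMap A B x)) = _
    rw [← IsScalarTower.algebraMap_apply A B Bb, IsScalarTower.algebraMap_apply A A[X] Bb,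
      AlgHom.commutes, hCA]
  let ρA : (B ⧸ Ideal.span {τ}) →ₐ[A] (A ⊗[A[X]] Bb) := { ρ with commutes' := hρA }
  have : Module.IsTorsionFree A (B ⧸ Ideal.span {τ}) :=
    Function.Injective.moduleIsTorsionFree ρA hρ (map_smul ρA)
  infer_instance

end Groth.BranchVar.Cut
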